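import Groth.Agent.IndEtLib.Localization
import Groth.Agent.MorLib.DescendCI
import Groth.Agent.S3036
import Groth.Prelude.Def_Red
import Mathlib.AlgebraicGeometry.FunctionField

/-!
# Spreading properties of morphisms from the generic point of an integral scheme
-/

universe u

open CategoryTheory Limits AlgebraicGeometry MonoidalCategory CartesianMonoidalCategory MonObj GrpObj
  TopologicalSpace Opposite
open scoped CategoryTheory.Obj

set_option autoImplicit false

namespace Groth.Agent.GenTransporter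

open Groth.Agent.MorLib Groth.Agent.MorLib.Desc Groth.Agent.IndEtLib

variable {S : Scheme.{u}} {H G : Over S} (i : H ⟶ G)

/-- The base change of a morphism over `S` is a base change of the morphism. -/
theorem isPullback_map_left {T : Scheme.{u}} (ρ : T ⟶ S) :
    IsPullback (pullback.fst H.hom ρ) ((Over.pullback ρ).map i).left i.left (pullback.fst G.hom ρ) := by
  have h1 : ((Over.pullback ρ).map i).left ≫ pullback.snd G.hom ρ = pullback.snd H.hom ρ :=
    Over.w ((Over.pullback ρ).map i)
  refine IsPullback.of_bot ?_ ?_ (IsPullback.of_hasPullback G.hom ρ)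
  · rw [h1, Over.w i]
    exact IsPullback.of_hasPullback H.hom ρ
  · exact (pullback.lift_fst _ _ _).symm

/-- A property of a base change passes to further base changes. -/
theorem of_model {P : MorphismProperty Scheme.{u}} [P.IsStableUnderBaseChange] {T T' X Y : Scheme.{u}}
    {τ : T ⟶ S} {y : Y ⟶ G.left} {g : Y ⟶ T} {x : X ⟶ H.left} {f : X ⟶ Y} (hY : IsPullback y g G.hom τ)
    (hX : IsPullback x f i.left y) (a : T' ⟶ T) {ρ : T' ⟶ S} (hρ : a ≫ τ = ρ) (h : P f) :
    P ((Over.pullback ρ).map i).left := by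
  let q : pullback G.hom ρ ⟶ Y := hY.lift (pullback.fst G.hom ρ) (pullback.snd G.hom ρ ≫ a)
    (by rw [Category.assoc, hρ]; exact pullback.condition)
  have hq : q ≫ y = pullback.fst G.hom ρ := hY.lift_fst _ _ _
  let q' : pullback H.hom ρ ⟶ X := hX.lift (pullback.fst H.hom ρ) (((Over.pullback ρ).map i).left ≫ q)
    (by rw [Category.assoc, hq]; exact (isPullback_map_left i ρ).w)
  have : IsPullback q' ((Over.pullback ρ).map i).left f q := by
    refine IsPullback.of_right (h₁₂ := x) (h₂₂ := y) (v₁₃ := i.left) ?_ (hX.lift_snd _ _ _) hX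
    rw [hX.lift_fst, hq]
    exact isPullback_map_left i ρ
  exact MorphismProperty.of_isPullback this h

/-- A property which descends along limits and holds over the generic point holds over a nonempty open. -/
theorem exists_open_of_generic [IsIntegral S] {P : MorphismProperty Scheme.{u}} [P.IsStableUnderBaseChange]
    [IsZariskiLocalAtTarget P] (hcore : Core P @LocallyOfFiniteType)
    [LocallyOfFiniteType H.hom] [QuasiCompact G.hom] [QuasiCompact i.left] [QuasiSeparated i.left]
    (h : ∀ (K : Type u) [Field K] (ρ : Spec (CommRingCat.of K) ⟶ S), P ((Over.pullback ρ).map i).left)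
    (O : S.Opens) (hO : (O : Set S).Nonempty) :
    ∃ U : S.Opens, (U : Set S).Nonempty ∧ IsAffineOpen U ∧ U ≤ O ∧ P ((Over.pullback U.ι).map i).left := by
  obtain ⟨s₀, hs₀⟩ := hO
  obtain ⟨_, ⟨U₀, hU₀, rfl⟩, hsU₀, hU₀O⟩ := S.isBasis_affineOpens.exists_subset_of_mem_open hs₀ O.isOpen
  replace hU₀ : IsAffineOpen U₀ := hU₀
  haveI : Nonempty U₀ := ⟨⟨_, hsU₀⟩⟩
  let A := Γ(S, U₀)
  let M := nonZeroDivisors A
  let K := FractionRing A
  obtain ⟨hc₀⟩ := nonempty_isColimit_locCocone M K
  haveI : IsConnected (LocIdx M) := IsFiltered.isConnected _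
  let F := locDiagram M ⋙ Under.forget (CommRingCat.of A)
  let cR : Cocone F := (Under.forget (CommRingCat.of A)).mapCocone (locCocone M K)
  have hcR : IsColimit cR := isColimitOfPreserves _ hc₀
  let D : (LocIdx M)ᵒᵖ ⥤ Scheme.{u} := F.op ⋙ Scheme.Spec
  let c : Cone D := Scheme.Spec.mapCone cR.op
  have hc : IsLimit c := isLimitOfPreserves Scheme.Spec hcR.op
  haveI : ∀ j, IsAffine (D.obj j) := fun j => inferInstanceAs (IsAffine (Spec _))
  haveI : ∀ {a b : (LocIdx M)ᵒᵖ} (f : a ⟶ b), IsAffineHom (D.map f) := fun f => isAffineHom_of_isAffine _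
  haveI : ∀ (a b : (LocIdx M)ᵒᵖ) (f : a ⟶ b), IsAffineHom (D.map f) := fun a b f => isAffineHom_of_isAffine _
  let τ : ∀ j : (LocIdx M)ᵒᵖ, D.obj j ⟶ S := fun j =>
    Spec.map (CommRingCat.ofHom (algebraMap A j.unop.Stage)) ≫ hU₀.fromSpec
  have hτ : ∀ {a b : (LocIdx M)ᵒᵖ} (f : a ⟶ b), D.map f ≫ τ b = τ a := by
    intro a b f
    show Spec.map _ ≫ Spec.map _ ≫ _ = _
    rw [← Category.assoc, ← Spec.map_comp]
    congr 2
    exact Under.w ((locDiagram M).map f.unop)
  let i₀ : (LocIdx M)ᵒᵖ := op (⟨1, one_mem M⟩ : M)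
  let G₀ := (Over.pullback (τ i₀)).obj G
  let f₀ := ((Over.pullback (τ i₀)).map i).left
  have hf₀ := isPullback_map_left i (τ i₀)
  haveI : LocallyOfFiniteType i.left :=
    have : LocallyOfFiniteType (i.left ≫ G.hom) := by rw [Over.w i]; infer_instance
    locallyOfFiniteType_of_comp i.left G.hom
  haveI : LocallyOfFiniteType f₀ := MorphismProperty.of_isPullback hf₀ ‹LocallyOfFiniteType i.left›
  haveI : QuasiCompact f₀ := MorphismProperty.of_isPullback hf₀ ‹QuasiCompact i.left›
  haveI : QuasiSeparated f₀ := MorphismProperty.of_isPullback hf₀ ‹QuasiSeparated i.left›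
  haveI : QuasiCompact G₀.hom := MorphismProperty.pullback_snd (P := @QuasiCompact) _ _ ‹_›
  haveI : CompactSpace G₀.left := QuasiCompact.compactSpace_of_compactSpace G₀.hom
  let ρ : c.pt ⟶ S := c.π.app i₀ ≫ τ i₀
  let qY : pullback G.hom ρ ⟶ G₀.left :=
    pullback.lift (pullback.fst G.hom ρ) (pullback.snd G.hom ρ ≫ c.π.app i₀)
      (by rw [Category.assoc]; exact pullback.condition)
  have hqY : qY ≫ pullback.fst G.hom (τ i₀) = pullback.fst G.hom ρ := pullback.lift_fst _ _ _
  have hY : IsPullback qY (pullback.snd G.hom ρ) G₀.hom (c.π.app i₀) := by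
    refine IsPullback.of_right ?_ (pullback.lift_snd _ _ _) (IsPullback.of_hasPullback G.hom (τ i₀))
    rw [hqY]
    exact IsPullback.of_hasPullback G.hom ρ
  let qX : pullback H.hom ρ ⟶ ((Over.pullback (τ i₀)).obj H).left :=
    hf₀.lift (pullback.fst H.hom ρ) (((Over.pullback ρ).map i).left ≫ qY)
      (by rw [Category.assoc, hqY]; exact (isPullback_map_left i ρ).w)
  have hX : IsPullback qX ((Over.pullback ρ).map i).left f₀ qY := by
    refine IsPullback.of_right (h₁₂ := pullback.fst H.hom (τ i₀)) (h₂₂ := pullback.fst G.hom (τ i₀))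
      (v₁₃ := i.left) ?_ (hf₀.lift_snd _ _ _) hf₀
    rw [hf₀.lift_fst, hqY]
    exact isPullback_map_left i ρ
  obtain ⟨j, φ, Xj, Yj, fj, gj, pY, pX, hYj, hXj, hfj⟩ := descend₂ D c hc (P := P)
    (Q := @LocallyOfFiniteType) hcore f₀ G₀.hom inferInstance _ (pullback.snd G.hom ρ) qY qX hY hX
    (h K ρ)
  let m : A := j.unop.el
  let U := S.basicOpen m
  have hm : m ≠ 0 := nonZeroDivisors.ne_zero (Subtype.prop j.unop)
  refine ⟨U, ?_, hU₀.basicOpen m, (S.basicOpen_le m).trans hU₀O, ?_⟩
  · by_contra hemp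
    exact hm ((AlgebraicGeometry.basicOpen_eq_bot_iff _).mp
      (Opens.coe_inj.mp (by simpa [U] using Set.not_nonempty_iff_eq_empty.mp hemp)))
  have hr : Set.range U.ι ⊆ Set.range (τ j) := by
    rw [Scheme.Opens.range_ι]
    show ((S.basicOpen m : S.Opens) : Set S) ⊆ _
    rw [← hU₀.fromSpec_image_basicOpen m]
    rintro _ ⟨p, hp, rfl⟩
    obtain ⟨q, hq⟩ := (PrimeSpectrum.localization_away_comap_range (Localization.Away m) m).ge hp
    exact ⟨q, congrArg hU₀.fromSpec hq⟩
  have ho : IsOpenImmersion (Spec.map (CommRingCat.ofHom (algebraMap A j.unop.Stage))) :=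
    IsOpenImmersion.of_isLocalization m
  haveI : IsOpenImmersion (τ j) := MorphismProperty.comp_mem @IsOpenImmersion _ _ ho hU₀.isOpenImmersion_fromSpec
  have hbotY : IsPullback (pY ≫ pullback.fst G.hom (τ i₀)) gj G.hom (τ j) := by
    rw [← hτ φ]
    exact hYj.paste_horiz (IsPullback.of_hasPullback G.hom (τ i₀))
  exact of_model i hbotY (hXj.paste_horiz hf₀) (IsOpenImmersion.lift (τ j) U.ι hr)
    (IsOpenImmersion.lift_fac _ _ hr) hfj

/-- A quasi-compact monomorphism of group schemes is a closed immersion over a nonempty open. -/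
theorem exists_open_isClosedImmersion [IsIntegral S] [GrpObj H] [GrpObj G] [IsMonHom i] [Mono i]
    [LocallyOfFiniteType H.hom] [LocallyOfFiniteType G.hom] [QuasiCompact G.hom] [QuasiCompact i.left]
    (O : S.Opens) (hO : (O : Set S).Nonempty) :
    ∃ U : S.Opens, (U : Set S).Nonempty ∧ IsAffineOpen U ∧ U ≤ O ∧
      IsClosedImmersion ((Over.pullback U.ι).map i).left := by
  haveI : Mono i.left := (Over.forget _).map_mono i
  refine exists_open_of_generic i (P := @IsClosedImmersion) core_closedImmersion (fun K _ ρ => ?_) O hO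
  haveI : LocallyOfFiniteType ((Over.pullback ρ).obj G).hom :=
    MorphismProperty.pullback_snd (P := @LocallyOfFiniteType) _ _ ‹_›
  haveI : LocallyOfFiniteType ((Over.pullback ρ).obj H).hom :=
    MorphismProperty.pullback_snd (P := @LocallyOfFiniteType) _ _ ‹_›
  haveI : QuasiCompact ((Over.pullback ρ).map i).left :=
    MorphismProperty.of_isPullback (isPullback_map_left i ρ) ‹QuasiCompact i.left›
  exact Groth.Agent.S3036.result K _ _ ((Over.pullback ρ).map i)

end Groth.Agent.GenTransporter
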