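import Groth.Agent.GenTransporter.Transporter
import Groth.Agent.GrpSchLib.MonoSubgroup
import Groth.Agent.TransLib.Field
import Groth.Agent.S12442
import Groth.Prelude.Def_Red2
import Mathlib.Tactic.Group

/-!
# Centralizers and normalizers of an essentially free closed subgroup
-/

universe u

open CategoryTheory Limits AlgebraicGeometry MonoidalCategory CartesianMonoidalCategory MonObj GrpObj

set_option autoImplicit false

namespace Groth.Agent.GenTransporter

variable {S : Scheme.{u}} {G H : Over S} [GrpObj G] [GrpObj H]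
  [IsSeparated G.hom] [LocallyOfFinitePresentation G.hom] [QuasiCompact G.hom]

/-- The centralizer of a homomorphism from an essentially free quasi-compact scheme. -/
theorem exists_centralizer (hH : SGA3x.IsEssentiallyFree H.hom) (hqc : QuasiCompact H.hom) (i : H ⟶ G) :
    ∃ (C : Over S) (_ : GrpObj C) (c : C ⟶ G), Red.IsCentralizerOf i c ∧ IsClosedImmersion c.left ∧
      LocallyOfFinitePresentation C.hom ∧ QuasiCompact C.hom := by
  obtain ⟨C, c, hc, hfp, hq, -, hC⟩ := exists_transporter_of_essFree hH hqc i i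
  haveI := hc
  haveI : Mono c := (Over.forget _).mono_of_mono_map (inferInstanceAs (Mono c.left))
  have key : ∀ (X : Over S) (g : X ⟶ G), (∃ z : X ⟶ C, z ≫ c = g) ↔
      ∀ (X' : Over S) (x : X' ⟶ X) (h : X' ⟶ H), Commute (x ≫ g) (h ≫ i) := fun X g =>
    (hC X g).trans (forall_congr' fun X' => forall_congr' fun x => forall_congr' fun h => mul_inv_eq_iff_eq_mul)
  obtain ⟨e', he⟩ := (key _ η[G]).mpr fun X' x h => by
    rw [show x ≫ η[G] = (1 : X' ⟶ G) by rw [Hom.one_def, toUnit_unique x (toUnit _)]]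
    exact Commute.one_left _
  obtain ⟨m', hm⟩ := (key _ ((fst C C ≫ c) * (snd C C ≫ c))).mpr fun X' x h => by
    rw [MonObj.comp_mul, ← Category.assoc, ← Category.assoc]
    have h1 := (key _ ((x ≫ fst C C) ≫ c)).mp ⟨_, rfl⟩ X' (𝟙 _) h
    have h2 := (key _ ((x ≫ snd C C) ≫ c)).mp ⟨_, rfl⟩ X' (𝟙 _) h
    simp only [Category.id_comp] at h1 h2
    exact h1.mul_left h2
  obtain ⟨v', hv⟩ := (key _ c⁻¹).mpr fun X' x h => by
    have h1 := (key _ (x ≫ c)).mp ⟨x, rfl⟩ X' (𝟙 _) h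
    simp only [Category.id_comp] at h1
    rw [GrpObj.comp_inv]
    exact h1.inv_left
  obtain ⟨str, hmon⟩ := GrpSchLib.exists_grpObj_of_mono c e' he m' hm v' hv
  exact ⟨C, str, c, ⟨hmon, ‹Mono c›, key⟩, hc, hfp, hq⟩

/-- The normalizer of an essentially free closed subgroup of finite presentation. -/
theorem exists_normalizer (hH : SGA3x.IsEssentiallyFree H.hom) [QuasiCompact H.hom]
    [LocallyOfFinitePresentation H.hom] (i : H ⟶ G) [IsClosedImmersion i.left] :
    ∃ (N : Over S) (_ : GrpObj N) (n : N ⟶ G), Red.IsNormalizerOf i n ∧ IsClosedImmersion n.left ∧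
      LocallyOfFinitePresentation N.hom ∧ QuasiCompact N.hom := by
  haveI : LocallyOfFinitePresentation (i.left ≫ G.hom) := by rw [Over.w i]; infer_instance
  haveI : LocallyOfFinitePresentation i.left := Groth.Agent.S12442.locallyOfFinitePresentation_of_comp i.left G.hom
  obtain ⟨T₁, t₁, ht₁, hf₁, hT₁⟩ := TransLib.exists_closed_universal_essFree hH
    (snd H G * (fst H G ≫ i) * (snd H G)⁻¹) i
  obtain ⟨T₂, t₂, ht₂, hf₂, hT₂⟩ := TransLib.exists_closed_universal_essFree hH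
    ((snd H G)⁻¹ * (fst H G ≫ i) * snd H G) i
  haveI := ht₁
  haveI := ht₂
  haveI : LocallyOfFinitePresentation t₁.left := hf₁ inferInstance inferInstance
  haveI : LocallyOfFinitePresentation t₂.left := hf₂ inferInstance inferInstance
  let N : Over S := Over.mk (pullback.fst t₁.left t₂.left ≫ T₁.hom)
  let n : N ⟶ G := Over.homMk (pullback.fst t₁.left t₂.left ≫ t₁.left) (by simp [N])
  have hn : IsClosedImmersion n.left :=
    inferInstanceAs (IsClosedImmersion (pullback.fst t₁.left t₂.left ≫ t₁.left))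
  haveI := hn
  haveI : LocallyOfFinitePresentation n.left :=
    inferInstanceAs (LocallyOfFinitePresentation (pullback.fst t₁.left t₂.left ≫ t₁.left))
  haveI : Mono n := (Over.forget _).mono_of_mono_map (inferInstanceAs (Mono n.left))
  have hN : ∀ (X : Over S) (g : X ⟶ G), (∃ z : X ⟶ N, z ≫ n = g) ↔
      ∀ (X' : Over S) (x : X' ⟶ X) (h : X' ⟶ H),
      (∃ h' : X' ⟶ H, (x ≫ g) * (h ≫ i) * (x ≫ g)⁻¹ = h' ≫ i) ∧
      (∃ h' : X' ⟶ H, (x ≫ g)⁻¹ * (h ≫ i) * (x ≫ g) = h' ≫ i) := by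
    intro X g
    refine ⟨?_, fun h => ?_⟩
    · rintro ⟨z, rfl⟩
      obtain ⟨l₁, hl₁⟩ := (hT₁ (z ≫ n)).mp ⟨Over.homMk (z.left ≫ pullback.fst t₁.left t₂.left)
        (by rw [Category.assoc]; exact Over.w z), by ext; simp [n]⟩
      obtain ⟨l₂, hl₂⟩ := (hT₂ (z ≫ n)).mp ⟨Over.homMk (z.left ≫ pullback.snd t₁.left t₂.left)
        (by
          rw [Category.assoc, show pullback.snd t₁.left t₂.left ≫ T₂.hom = pullback.fst t₁.left t₂.left ≫ T₁.hom by
            rw [← Over.w t₂, ← pullback.condition_assoc, Over.w t₁]]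
          exact Over.w z), by ext; simp [n, pullback.condition]⟩
      exact fun X' x h => ⟨⟨lift h x ≫ l₁, by
          rw [Category.assoc, hl₁]; simp [MonObj.comp_mul, GrpObj.comp_inv, lift_whiskerLeft_assoc]⟩,
        ⟨lift h x ≫ l₂, by
          rw [Category.assoc, hl₂]; simp [MonObj.comp_mul, GrpObj.comp_inv, lift_whiskerLeft_assoc]⟩⟩
    · obtain ⟨⟨a, ha⟩, ⟨b, hb⟩⟩ := h (H ⊗ X) (snd H X) (fst H X)
      obtain ⟨z₁, hz₁⟩ := (hT₁ g).mpr ⟨a, by rw [← ha]; simp [MonObj.comp_mul, GrpObj.comp_inv]⟩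
      obtain ⟨z₂, hz₂⟩ := (hT₂ g).mpr ⟨b, by rw [← hb]; simp [MonObj.comp_mul, GrpObj.comp_inv]⟩
      have hz : z₁.left ≫ t₁.left = z₂.left ≫ t₂.left := congrArg CommaMorphism.left (hz₁.trans hz₂.symm)
      refine ⟨Over.homMk (pullback.lift z₁.left z₂.left hz) ?_, Over.OverMorphism.ext ?_⟩
      · show _ ≫ pullback.fst t₁.left t₂.left ≫ T₁.hom = _
        rw [pullback.lift_fst_assoc, Over.w z₁]
      · show pullback.lift z₁.left z₂.left hz ≫ pullback.fst t₁.left t₂.left ≫ t₁.left = g.left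
        rw [pullback.lift_fst_assoc, ← Over.comp_left, hz₁]
  obtain ⟨e', he⟩ := (hN _ η[G]).mpr fun X' x h => by
    rw [show x ≫ η[G] = (1 : X' ⟶ G) by rw [Hom.one_def, toUnit_unique x (toUnit _)]]
    exact ⟨⟨h, by simp⟩, ⟨h, by simp⟩⟩
  obtain ⟨m', hm⟩ := (hN _ ((fst N N ≫ n) * (snd N N ≫ n))).mpr fun X' x a => by
    have h1 := fun a' => (hN _ _).mp ⟨x ≫ fst N N, rfl⟩ X' (𝟙 _) a'
    have h2 := fun a' => (hN _ _).mp ⟨x ≫ snd N N, rfl⟩ X' (𝟙 _) a'
    simp only [Category.id_comp] at h1 h2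
    simp only [MonObj.comp_mul, ← Category.assoc]
    refine ⟨?_, ?_⟩
    · obtain ⟨b, hb⟩ := (h2 a).1
      obtain ⟨d, hd⟩ := (h1 b).1
      exact ⟨d, by rw [← hd, ← hb]; group⟩
    · obtain ⟨b, hb⟩ := (h1 a).2
      obtain ⟨d, hd⟩ := (h2 b).2
      exact ⟨d, by rw [← hd, ← hb]; group⟩
  obtain ⟨v', hv⟩ := (hN _ n⁻¹).mpr fun X' x a => by
    have h := (hN _ _).mp ⟨𝟙 N, rfl⟩ X' x a
    simp only [Category.id_comp] at h
    simp only [GrpObj.comp_inv, _root_.inv_inv]
    exact ⟨h.2, h.1⟩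
  obtain ⟨str, hstr⟩ := GrpSchLib.exists_grpObj_of_mono n e' he m' hm v' hv
  refine ⟨N, str, n, ⟨hstr, ‹Mono n›, hN⟩, hn, ?_, ?_⟩
  · rw [← Over.w n]; infer_instance
  · rw [← Over.w n]; infer_instance

end Groth.Agent.GenTransporter
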