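import Groth.Agent.GrpSchLib.Neutral
import Groth.Agent.GrpSchLib.AntiAffineHom
import Groth.Agent.S0346
import Groth.Agent.S0389
import Mathlib.AlgebraicGeometry.Morphisms.Immersion

/-!
# Generic separatedness of group schemes and generic essential freeness
-/

universe u

open CategoryTheory Limits AlgebraicGeometry MonoidalCategory CartesianMonoidalCategory MonObj GrpObj
  TopologicalSpace TensorProduct
open scoped CategoryTheory.Obj

set_option autoImplicit false

namespace Groth.Agent.GenTransporter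

open Groth.Agent.GrpSchLib Groth.Agent.GrpSchLib.Neutral

theorem fromSpec_bot {S : Scheme.{u}} [IsIntegral S] {U : S.Opens} (hU : IsAffineOpen U) [IsDomain Γ(S, U)] :
    hU.fromSpec (⟨⊥, Ideal.isPrime_bot⟩ : Spec Γ(S, U)) = genericPoint S := by
  haveI : IrreducibleSpace ↥(Spec Γ(S, U)) := inferInstanceAs (IrreducibleSpace (PrimeSpectrum Γ(S, U)))
  rw [← genericPoint_eq_of_isOpenImmersion hU.fromSpec, genericPoint_eq_bot_of_affine]
  rfl

/-- A closed set missing the generic fibre misses the preimage of a nonempty open. -/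
theorem exists_open_disjoint {X S : Scheme.{u}} [IsIntegral S] (f : X ⟶ S) [QuasiCompact f]
    {Z : Set X} (hZ : IsClosed Z) (hgen : ∀ x ∈ Z, f x ≠ genericPoint S) :
    ∃ U : S.Opens, (U : Set S).Nonempty ∧ ∀ x ∈ Z, f x ∉ U := by
  classical
  obtain ⟨_, ⟨U, hU, rfl⟩, hgU, -⟩ :=
    S.isBasis_affineOpens.exists_subset_of_mem_open (Set.mem_univ (genericPoint S)) isOpen_univ
  replace hU : IsAffineOpen U := hU
  haveI : Nonempty U := ⟨⟨_, hgU⟩⟩
  obtain ⟨t, ht, htf, htc⟩ := X.isBasis_affineOpens.exists_finite_of_isCompact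
    (f.isCompact_preimage hU.isCompact : IsCompact ((f ⁻¹ᵁ U : X.Opens) : Set X))
  have key : ∀ V ∈ t, ∃ a : Γ(S, U), a ≠ 0 ∧ ∀ x ∈ Z, x ∈ V → f x ∉ S.basicOpen a := by
    intro V hVt
    have hV : IsAffineOpen V := ht hVt
    have e : V ≤ f ⁻¹ᵁ U := by rw [htc]; exact le_sSup hVt
    let φ := (f.appLE U V e).hom
    obtain ⟨I, hI⟩ := (PrimeSpectrum.isClosed_iff_zeroLocus_ideal (hV.fromSpec ⁻¹' Z)).mp
      (hZ.preimage hV.fromSpec.continuous)
    by_cases hd : Disjoint (I : Set Γ(X, V)) ((nonZeroDivisors Γ(S, U)).map φ : Set Γ(X, V))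
    · obtain ⟨p, hp, hIp, hpd⟩ := Ideal.exists_le_prime_disjoint I _ hd
      let P : Spec Γ(X, V) := ⟨p, hp⟩
      have hPZ : hV.fromSpec P ∈ Z := hI.ge hIp
      refine absurd ?_ (hgen _ hPZ)
      rw [← Scheme.Hom.comp_apply, ← IsAffineOpen.SpecMap_appLE_fromSpec f hU hV e, Scheme.Hom.comp_apply]
      rw [show Spec.map (f.appLE U V e) P = (⟨⊥, Ideal.isPrime_bot⟩ : Spec Γ(S, U)) from ?_]
      · exact fromSpec_bot hU
      refine PrimeSpectrum.ext (eq_bot_iff.mpr fun a ha => ?_)
      by_contra ha0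
      exact Set.disjoint_left.mp hpd (show φ a ∈ p from ha)
        ⟨a, mem_nonZeroDivisors_of_ne_zero ha0, rfl⟩
    · obtain ⟨_, hbI, a, ha, rfl⟩ := Set.not_disjoint_iff.mp hd
      refine ⟨a, nonZeroDivisors.ne_zero ha, fun x hxZ hxV hxa => ?_⟩
      have hx : hV.fromSpec (hV.primeIdealOf ⟨x, hxV⟩) = x := hV.fromSpec_primeIdealOf ⟨x, hxV⟩
      have hmem : hV.primeIdealOf ⟨x, hxV⟩ ∈ hV.fromSpec ⁻¹' Z := by
        show hV.fromSpec _ ∈ Z
        rw [hx]; exact hxZ
      have hmem' : hV.primeIdealOf ⟨x, hxV⟩ ∈ PrimeSpectrum.zeroLocus (I : Set Γ(X, V)) := hI.le hmem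
      have : x ∈ X.basicOpen (φ a) := by
        rw [Scheme.basicOpen_appLE]
        exact ⟨hxV, hxa⟩
      rw [show x = hV.fromSpec (hV.primeIdealOf ⟨x, hxV⟩) from hx.symm,
        ← SetLike.mem_coe] at this
      have h2 : hV.primeIdealOf ⟨x, hxV⟩ ∈ hV.fromSpec ⁻¹ᵁ X.basicOpen (φ a) := this
      rw [hV.fromSpec_preimage_basicOpen] at h2
      exact h2 (hmem' hbI)
  choose! a ha0 ha using key
  refine ⟨S.basicOpen (∏ V ∈ htf.toFinset, a V), ?_, fun x hx hxa => ?_⟩
  · have hne : ∏ V ∈ htf.toFinset, a V ≠ 0 :=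
      Finset.prod_ne_zero_iff.mpr fun V hV => ha0 V (htf.mem_toFinset.mp hV)
    by_contra hemp
    exact hne ((AlgebraicGeometry.basicOpen_eq_bot_iff _).mp
      (Opens.coe_inj.mp (by simpa using Set.not_nonempty_iff_eq_empty.mp hemp)))
  · have hxU : x ∈ f ⁻¹ᵁ U := S.basicOpen_le _ hxa
    rw [htc] at hxU
    obtain ⟨V, hVt, hxV⟩ := Opens.mem_sSup.mp hxU
    refine ha V hVt x hx hxV ?_
    rw [← Finset.mul_prod_erase _ _ (htf.mem_toFinset.mpr hVt), Scheme.basicOpen_mul] at hxa
    exact hxa.1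

variable {S : Scheme.{u}} (G : Over S) [GrpObj G]

/-- Over an irreducible base only the unit lies in the generic fibre of the closure of the unit section. -/
theorem eq_unit_of_mem_closure [IsIntegral S] {x : G.left} (hx : x ∈ closure (Set.range (unit G)))
    (hxη : G.hom x = genericPoint S) : x = unit G (genericPoint S) := by
  let s := genericPoint S
  have h1 : x ∈ closure {unit G s} := by
    refine closure_minimal ?_ isClosed_closure hx
    rintro _ ⟨t, rfl⟩
    exact ((genericPoint_specializes t).map (unit G).continuous).mem_closure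
  let π := pullback.fst G.hom (S.fromSpecResidueField s)
  have hπ : Topology.IsEmbedding π := (G.hom.fiberι s).isEmbedding
  have hr : Set.range π = G.hom ⁻¹' {s} := Scheme.Hom.range_fiberι G.hom s
  obtain ⟨p, rfl⟩ : x ∈ Set.range π := hr.ge hxη
  let z := IsLocalRing.closedPoint (S.residueField s)
  let q := η[fib G s].left z
  have hq : π q = unit G s := fst_unit G s z
  haveI := Groth.Agent.GrpSchLib.AntiAffine.isSeparated_grp (fib G s)
  haveI : IsClosedImmersion η[fib G s].left := (Groth.Agent.S0346.result _ (fib G s)).1.mp inferInstance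
  have hclosed : IsClosed ({q} : Set (fib G s).left) := by
    have : ({q} : Set (fib G s).left) = Set.range η[fib G s].left := by
      refine Set.Subset.antisymm (Set.singleton_subset_iff.mpr ⟨z, rfl⟩) ?_
      rintro _ ⟨w, rfl⟩
      haveI : Subsingleton ↥(Spec (S.residueField s)) :=
        inferInstanceAs (Subsingleton (PrimeSpectrum (S.residueField s)))
      exact congrArg _ (Subsingleton.elim (α := ↥(Spec (S.residueField s))) w z)
    rw [this]
    exact η[fib G s].left.isClosedEmbedding.isClosed_range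
  have h2 : p ∈ closure {q} := by
    rw [hπ.closure_eq_preimage_closure_image, Set.image_singleton, hq]
    exact h1
  rw [hclosed.closure_eq] at h2
  rw [show p = q from h2, hq]

theorem unit_bc_fst {S' : Scheme.{u}} (g : S' ⟶ S) (s : S') :
    pullback.fst G.hom g ((η[(Over.pullback g).obj G]).left s) = unit G (g s) := by
  have h : η[(Over.pullback g).obj G] = Functor.LaxMonoidal.ε (Over.pullback g) ≫
      (Over.pullback g).map η[G] := rfl
  rw [h, left_comp_apply]
  refine (congrArg (fun m : ((Over.pullback g).obj (𝟙_ (Over S))).left ⟶ G.left => m _)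
    (pullback.lift_fst _ _ _)).trans ?_
  refine congrArg (η[G]).left ?_
  rw [show pullback.fst (𝟙_ (Over S)).hom g =
    pullback.fst (𝟙_ (Over S)).hom g ≫ (𝟙_ (Over S)).hom from (Category.comp_id _).symm, pullback.condition]
  show g (pullback.snd (𝟙_ (Over S)).hom g ((Functor.LaxMonoidal.ε (Over.pullback g)).left s)) = g s
  refine congrArg g ?_
  exact congrArg (fun m : S' ⟶ S' => m s) (Over.w (Functor.LaxMonoidal.ε (Over.pullback g)))

/-- A quasi-compact group scheme over an integral scheme is separated over a nonempty open. -/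
theorem exists_open_isSeparated [IsIntegral S] [QuasiCompact G.hom] :
    ∃ U : S.Opens, (U : Set S).Nonempty ∧
      ∀ V : S.Opens, V ≤ U → IsSeparated ((Over.pullback V.ι).obj G).hom := by
  haveI hunit : IsImmersion (unit G) := by
    haveI : IsImmersion (unit G ≫ G.hom) := by
      rw [show unit G ≫ G.hom = 𝟙 S from Over.w η[G]]; infer_instance
    exact IsImmersion.of_comp _ G.hom
  let R := Set.range (unit G)
  let Z := closure R \ R
  have hZ : IsClosed Z := by
    have h := (unit G).isLocallyClosed_range.isOpen_coborder.isClosed_compl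
    rwa [coborder, compl_compl] at h
  obtain ⟨U, hU, hdis⟩ := exists_open_disjoint G.hom hZ fun x hx hxη =>
    hx.2 ⟨_, (eq_unit_of_mem_closure G hx.1 hxη).symm⟩
  refine ⟨U, hU, fun V hVU => ?_⟩
  let H := (Over.pullback V.ι).obj G
  rw [(Groth.Agent.S0346.result _ H).1]
  haveI : IsImmersion η[H].left := by
    haveI : IsImmersion (η[H].left ≫ H.hom) := by
      rw [show η[H].left ≫ H.hom = 𝟙 _ from Over.w η[H]]; infer_instance
    exact IsImmersion.of_comp _ H.hom
  refine IsClosedImmersion.of_isPreimmersion _ ?_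
  let π := pullback.fst G.hom V.ι
  have : Set.range η[H].left = π ⁻¹' closure R := by
    refine Set.Subset.antisymm ?_ fun z hz => ?_
    · rintro _ ⟨s, rfl⟩
      exact subset_closure ⟨_, (unit_bc_fst G V.ι s).symm⟩
    · have hzV : G.hom (π z) ∈ V := by
        rw [← Scheme.Hom.comp_apply, pullback.condition, Scheme.Hom.comp_apply]
        exact (pullback.snd G.hom V.ι z).2
      have hzR : π z ∈ R := by
        by_contra hn
        exact hdis _ ⟨hz, hn⟩ (hVU hzV)
      obtain ⟨s, hs⟩ := hzR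
      have hsV : s ∈ V := by rwa [← hs, hom_unit] at hzV
      refine ⟨⟨s, hsV⟩, ?_⟩
      apply (pullback.fst G.hom V.ι).isOpenEmbedding.injective
      rw [unit_bc_fst]
      exact hs
  rw [this]
  exact isClosed_closure.preimage π.continuous

/-- A ring map with projective target stays so after conjugation with isomorphisms. -/
theorem projective_of_ringEquiv {A B A' B' : Type u} [CommRing A] [CommRing B] [CommRing A'] [CommRing B']
    (φ : A →+* B) (ψ : A' →+* B') (eA : A ≃+* A') (eB : B ≃+* B') (h : ∀ a, eB (φ a) = ψ (eA a))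
    (hP : @Module.Projective A _ B _ φ.toAlgebra.toModule) :
    @Module.Projective A' _ B' _ ψ.toAlgebra.toModule := by
  letI := φ.toAlgebra
  letI := ψ.toAlgebra
  haveI := RingHomInvPair.of_ringEquiv eA
  haveI := RingHomInvPair.of_ringEquiv eA.symm
  let e : B ≃ₛₗ[(eA : A →+* A')] B' :=
    { eB.toAddEquiv with
      map_smul' := fun a b => by
        show eB (φ a * b) = ψ (eA a) * eB b
        rw [map_mul, h] }
  exact Module.Projective.of_equiv e

/-- Projectivity is stable under enlarging the base of a base change. -/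
theorem projective_baseChange_of_tower {A D D' B : Type u} [CommRing A] [CommRing D] [CommRing D'] [CommRing B]
    [Algebra A D] [Algebra A D'] [Algebra D D'] [IsScalarTower A D D'] [Algebra A B]
    [Module.Projective D (D ⊗[A] B)] : Module.Projective D' (D' ⊗[A] B) :=
  Module.Projective.of_equiv (AlgebraTensorModule.cancelBaseChange A D D' D' B)

/-- Generic essential freeness on one affine piece: projective over every smaller basic open. -/
theorem exists_projective_piece {X S : Scheme.{u}} [IsIntegral S] (f : X ⟶ S) [LocallyOfFiniteType f]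
    {U : S.Opens} (hU : IsAffineOpen U) [Nonempty U] {V : X.Opens} (hV : IsAffineOpen V) (e : V ≤ f ⁻¹ᵁ U) :
    ∃ c : Γ(S, U), c ≠ 0 ∧ ∀ d : Γ(S, U), ∀ e' : X.basicOpen ((f.appLE U V e).hom (c * d)) ≤ f ⁻¹ᵁ S.basicOpen (c * d),
      @Module.Projective Γ(S, S.basicOpen (c * d)) _ Γ(X, X.basicOpen ((f.appLE U V e).hom (c * d))) _
        (f.appLE (S.basicOpen (c * d)) (X.basicOpen ((f.appLE U V e).hom (c * d))) e').hom.toAlgebra.toModule := by
  let A := Γ(S, U)
  let B := Γ(X, V)
  letI : Algebra A B := (f.appLE U V e).hom.toAlgebra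
  haveI : Algebra.FiniteType A B := f.finiteType_appLE hU hV e
  obtain ⟨c, hc, -, hfree, -, -⟩ := Groth.Agent.S0389.result (R := A) (S := B) (M := B)
  refine ⟨c, hc, fun d e' => ?_⟩
  let g := c * d
  let W := X.basicOpen ((f.appLE U V e).hom g)
  let D := Γ(S, S.basicOpen g)
  let E := Γ(X, W)
  letI : Algebra A D := (S.presheaf.map (homOfLE (S.basicOpen_le g)).op).hom.toAlgebra
  haveI : IsLocalization.Away g D := hU.isLocalization_basicOpen g
  letI : Algebra B E := (X.presheaf.map (homOfLE (X.basicOpen_le _)).op).hom.toAlgebra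
  haveI : IsLocalization.Away (algebraMap A B g) E := hV.isLocalization_basicOpen _
  letI : Algebra D E := (f.appLE (S.basicOpen g) W e').hom.toAlgebra
  letI : Algebra A E := ((algebraMap B E).comp (algebraMap A B)).toAlgebra
  haveI : IsScalarTower A B E := IsScalarTower.of_algebraMap_eq' rfl
  haveI : IsScalarTower A D E := IsScalarTower.of_algebraMap_eq' (by
    show (f.appLE U V e ≫ X.presheaf.map _).hom = (S.presheaf.map _ ≫ f.appLE (S.basicOpen g) W e').hom
    rw [Scheme.Hom.appLE_map, Scheme.Hom.map_appLE])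
  have hu : IsUnit (algebraMap A D c) :=
    isUnit_of_dvd_unit (map_dvd _ (Dvd.intro d rfl)) (IsLocalization.Away.algebraMap_isUnit g)
  letI : Algebra (Localization.Away c) D := (IsLocalization.Away.lift c hu).toAlgebra
  haveI : IsScalarTower A (Localization.Away c) D :=
    IsScalarTower.of_algebraMap_eq' (IsLocalization.Away.lift_comp c hu).symm
  haveI := hfree
  haveI : Module.Projective D (D ⊗[A] B) :=
    projective_baseChange_of_tower (A := A) (D := Localization.Away c) (D' := D) (B := B)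
  haveI : IsLocalization (Algebra.algebraMapSubmonoid B (Submonoid.powers g)) E := by
    rw [show Algebra.algebraMapSubmonoid B (Submonoid.powers g) = Submonoid.powers (algebraMap A B g) from
      Submonoid.map_powers _ g]
    infer_instance
  haveI : Algebra.IsPushout A D B E := (Algebra.isPushout_of_isLocalization (Submonoid.powers g) D B E).symm
  exact Module.Projective.of_equiv (Algebra.IsPushout.equiv A D B E).toLinearEquiv

/-- A morphism of finite type to an integral scheme is essentially free over a nonempty open. -/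
theorem exists_open_essFree {X S : Scheme.{u}} [IsIntegral S] (f : X ⟶ S) [LocallyOfFiniteType f] [QuasiCompact f]
    (O : S.Opens) (hO : (O : Set S).Nonempty) :
    ∃ U : S.Opens, (U : Set S).Nonempty ∧ IsAffineOpen U ∧ U ≤ O ∧
      SGA3x.IsEssentiallyFree (pullback.snd f U.ι) := by
  classical
  obtain ⟨s₀, hs₀⟩ := hO
  obtain ⟨_, ⟨U₀, hU₀, rfl⟩, hsU₀, hU₀O⟩ := S.isBasis_affineOpens.exists_subset_of_mem_open hs₀ O.isOpen
  replace hU₀ : IsAffineOpen U₀ := hU₀
  haveI : Nonempty U₀ := ⟨⟨_, hsU₀⟩⟩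
  obtain ⟨t, ht, htf, htc⟩ := X.isBasis_affineOpens.exists_finite_of_isCompact
    (f.isCompact_preimage hU₀.isCompact : IsCompact ((f ⁻¹ᵁ U₀ : X.Opens) : Set X))
  have hle : ∀ V ∈ t, V ≤ f ⁻¹ᵁ U₀ := fun V hV => by rw [htc]; exact le_sSup hV
  choose! c hc0 hc using fun V (hV : V ∈ t) => exists_projective_piece f hU₀ (ht hV) (hle V hV)
  let g : Γ(S, U₀) := ∏ V ∈ htf.toFinset, c V
  have hg : g ≠ 0 := Finset.prod_ne_zero_iff.mpr fun V hV => hc0 V (htf.mem_toFinset.mp hV)
  let U := S.basicOpen g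
  have hU : IsAffineOpen U := hU₀.basicOpen g
  refine ⟨U, ?_, hU, (S.basicOpen_le g).trans hU₀O, ?_⟩
  · by_contra hemp
    exact hg ((AlgebraicGeometry.basicOpen_eq_bot_iff _).mp
      (Opens.coe_inj.mp (by simpa [U] using Set.not_nonempty_iff_eq_empty.mp hemp)))
  intro s
  haveI : IsAffine (U : Scheme.{u}) := hU
  let T : (U : Scheme.{u}).Opens := ⊤
  haveI : IsAffine (T : Scheme.{u}) := isAffineOpen_top _
  refine ⟨T, trivial, isAffineOpen_top _, T, inferInstance, 𝟙 _, inferInstance, inferInstance, fun x => ?_⟩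
  let f' := pullback.snd f U.ι
  let P := pullback f' (𝟙 (T : Scheme.{u}) ≫ T.ι)
  let π : P ⟶ (T : Scheme.{u}) := pullback.snd _ _
  let eT : (T : Scheme.{u}) ⟶ (U : Scheme.{u}) := 𝟙 (T : Scheme.{u}) ≫ T.ι
  haveI : IsIso eT := by
    show IsIso (𝟙 (T : Scheme.{u}) ≫ T.ι)
    rw [Category.id_comp]
    exact inferInstanceAs (IsIso (U : Scheme.{u}).topIso.hom)
  let m : P ⟶ X := pullback.fst f' eT ≫ pullback.fst f U.ι
  haveI : IsOpenImmersion m := inferInstanceAs (IsOpenImmersion (_ ≫ _))
  have hm : m ≫ f = π ≫ eT ≫ U.ι := by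
    show (pullback.fst f' eT ≫ pullback.fst f U.ι) ≫ f = _
    rw [Category.assoc, pullback.condition, ← Category.assoc, pullback.condition, Category.assoc]
  have hr : ∀ y, f y ∈ U → y ∈ m.opensRange := fun y hy => by
    obtain ⟨w, hw⟩ : y ∈ Set.range (pullback.fst f U.ι) := by
      rw [Scheme.Pullback.range_fst, Scheme.Opens.range_ι]; exact hy
    obtain ⟨v, rfl⟩ : w ∈ Set.range (pullback.fst f' eT) := (pullback.fst f' eT).surjective w
    exact ⟨v, hw⟩
  have hmx : f (m x) ∈ U := by
    rw [← Scheme.Hom.comp_apply, hm, Scheme.Hom.comp_apply, Scheme.Hom.comp_apply]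
    exact (eT (π x)).2
  have hx₀ : m x ∈ f ⁻¹ᵁ U₀ := S.basicOpen_le g hmx
  rw [htc] at hx₀
  obtain ⟨V, hVt, hxV⟩ := Opens.mem_sSup.mp hx₀
  have hgV : c V * (∏ V' ∈ htf.toFinset.erase V, c V') = g :=
    Finset.mul_prod_erase _ _ (htf.mem_toFinset.mpr hVt)
  let W := X.basicOpen ((f.appLE U₀ V (hle V hVt)).hom g)
  have hWU : W ≤ f ⁻¹ᵁ U := by
    show X.basicOpen _ ≤ _
    rw [Scheme.basicOpen_appLE]; exact inf_le_right
  have hW : IsAffineOpen W := (ht hVt).basicOpen _
  have hproj : @Module.Projective Γ(S, U) _ Γ(X, W) _ (f.appLE U W hWU).hom.toAlgebra.toModule := by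
    have : ∀ g' : Γ(S, U₀), c V * (∏ V' ∈ htf.toFinset.erase V, c V') = g' →
        ∀ h : X.basicOpen ((f.appLE U₀ V (hle V hVt)).hom g') ≤ f ⁻¹ᵁ S.basicOpen g',
        @Module.Projective Γ(S, S.basicOpen g') _ Γ(X, X.basicOpen ((f.appLE U₀ V (hle V hVt)).hom g')) _
        (f.appLE (S.basicOpen g') (X.basicOpen ((f.appLE U₀ V (hle V hVt)).hom g')) h).hom.toAlgebra.toModule := by
      rintro _ rfl h
      exact hc V hVt _ h
    exact this g hgV hWU
  let Q : P.Opens := m ⁻¹ᵁ W
  have hQ : IsAffineOpen Q := hW.preimage_of_isOpenImmersion m fun y hy => hr y (hWU hy)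
  refine ⟨Q, ?_, hQ, ?_⟩
  · show m x ∈ W
    show m x ∈ X.basicOpen _
    rw [Scheme.basicOpen_appLE]
    exact ⟨hxV, hmx⟩
  let mQ : (Q : Scheme.{u}) ⟶ (W : Scheme.{u}) := m ∣_ W
  haveI : IsIso mQ := by
    haveI : IsOpenImmersion mQ := inferInstanceAs (IsOpenImmersion (m ∣_ W))
    haveI : Surjective mQ := ⟨fun w => by
      obtain ⟨v, hv⟩ := hr w.1 (hWU w.2)
      have hvQ : v ∈ m ⁻¹ᵁ W := show m v ∈ W by rw [hv]; exact w.2
      exact ⟨⟨v, hvQ⟩, Subtype.ext ((morphismRestrict_base_coe m W ⟨v, hvQ⟩).trans hv)⟩⟩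
    exact (isIso_iff_isOpenImmersion_and_surjective mQ).mpr ⟨inferInstance, inferInstance⟩
  have hcomm : mQ ≫ f.resLE U W hWU = (Q.ι ≫ π) ≫ eT := by
    rw [← cancel_mono U.ι, Category.assoc, Scheme.Hom.resLE_comp_ι]
    show (m ∣_ W) ≫ W.ι ≫ f = _
    rw [← Category.assoc, morphismRestrict_ι, Category.assoc, hm]
    simp only [Category.assoc]
    rfl
  haveI : IsIso eT.appTop := inferInstanceAs (IsIso (Scheme.Γ.map eT.op))
  haveI : IsIso mQ.appTop := inferInstanceAs (IsIso (Scheme.Γ.map mQ.op))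
  let iso := arrowResLEAppIso f U W hWU
  refine projective_of_ringEquiv (f.appLE U W hWU).hom ((Q.ι ≫ π).appTop.hom)
    ((U.topIso.symm ≪≫ asIso eT.appTop).commRingCatIsoToRingEquiv)
    ((W.topIso.symm ≪≫ asIso mQ.appTop).commRingCatIsoToRingEquiv) (fun a => ?_) hproj
  have h1 : f.appLE U W hWU ≫ W.topIso.inv ≫ mQ.appTop = U.topIso.inv ≫ eT.appTop ≫ (Q.ι ≫ π).appTop := by
    have h2 : (f.resLE U W hWU).appTop ≫ W.topIso.hom = U.topIso.hom ≫ f.appLE U W hWU := iso.hom.w.symm
    rw [← Scheme.Hom.comp_appTop, ← hcomm, Scheme.Hom.comp_appTop, ← cancel_epi U.topIso.hom,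
      Iso.hom_inv_id_assoc, ← Category.assoc, ← h2, Category.assoc, Iso.hom_inv_id_assoc]
  exact congrArg (fun q : Γ(S, U) ⟶ Γ((Q : Scheme.{u}), ⊤) => q.hom a) h1

end Groth.Agent.GenTransporter
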