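import Groth.Agent.GenTransporter.Generic
import Groth.Agent.TransLib.Universal
import Groth.Agent.S4599

/-!
# Transporters of morphisms from an essentially free scheme
-/

universe u

open CategoryTheory Limits AlgebraicGeometry MonoidalCategory CartesianMonoidalCategory MonObj GrpObj

set_option autoImplicit false

namespace Groth.Agent.GenTransporter

variable {S : Scheme.{u}} {G Y : Over S} [GrpObj G]

/-- The diagonal of a separated scheme over the base, in `Over`. -/
theorem diag_props (G : Over S) [IsSeparated G.hom] [LocallyOfFiniteType G.hom] :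
    IsClosedImmersion (lift (𝟙 G) (𝟙 G)).left ∧ LocallyOfFinitePresentation (lift (𝟙 G) (𝟙 G)).left := by
  have h : (lift (𝟙 G) (𝟙 G)).left = pullback.diagonal G.hom := by
    apply pullback.hom_ext
    · rw [pullback.diagonal_fst]
      exact congrArg CommaMorphism.left (lift_fst (𝟙 G) (𝟙 G))
    · rw [pullback.diagonal_snd]
      exact congrArg CommaMorphism.left (lift_snd (𝟙 G) (𝟙 G))
  exact ⟨h ▸ (inferInstance : IsClosedImmersion (pullback.diagonal G.hom)), h ▸ Groth.Agent.S4599.result G.hom⟩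

/-- The transporter of `u` into `v` for `Y` essentially free and `G` separated. -/
theorem exists_transporter_of_essFree (hY : SGA3x.IsEssentiallyFree Y.hom) (hqc : QuasiCompact Y.hom)
    (u v : Y ⟶ G) [IsSeparated G.hom] [LocallyOfFinitePresentation G.hom] [QuasiCompact G.hom] :
    ∃ (T : Over S) (t : T ⟶ G), IsClosedImmersion t.left ∧
      LocallyOfFinitePresentation T.hom ∧ QuasiCompact T.hom ∧ QuasiSeparated T.hom ∧
      ∀ (S' : Over S) (g : S' ⟶ G), (∃ z : S' ⟶ T, z ≫ t = g) ↔
        ∀ (S'' : Over S) (s : S'' ⟶ S') (y : S'' ⟶ Y),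
          (s ≫ g) * (y ≫ u) * (s ≫ g)⁻¹ = y ≫ v := by
  obtain ⟨hd₁, hd₂⟩ := diag_props G
  haveI := hd₁
  obtain ⟨T, t, ht, hfp, hT⟩ := Groth.Agent.TransLib.exists_closed_universal_essFree hY
    (lift (snd Y G * (fst Y G ≫ u) * (snd Y G)⁻¹) (fst Y G ≫ v)) (lift (𝟙 G) (𝟙 G))
  haveI := ht
  haveI : LocallyOfFinitePresentation t.left := hfp hqc hd₂
  refine ⟨T, t, ht, ?_, ?_, ?_, fun S' g => (hT g).trans ⟨?_, fun h => ?_⟩⟩
  · rw [← Over.w t]; infer_instance
  · rw [← Over.w t]; infer_instance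
  · rw [← Over.w t]; infer_instance
  · rintro ⟨l, hl⟩ S'' s y
    have h1 : l = (Y ◁ g) ≫ (snd Y G * (fst Y G ≫ u) * (snd Y G)⁻¹) := by
      simpa using hl =≫ fst G G
    have h2 : l = (Y ◁ g) ≫ fst Y G ≫ v := by
      simpa using hl =≫ snd G G
    have := congrArg (lift y s ≫ ·) (h1.symm.trans h2)
    simpa [MonObj.comp_mul, GrpObj.comp_inv, lift_whiskerLeft_assoc] using this
  · have h' := h (Y ⊗ S') (snd Y S') (fst Y S')
    refine ⟨fst Y S' ≫ v, CartesianMonoidalCategory.hom_ext _ _ ?_ ?_⟩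
    · simp [MonObj.comp_mul, GrpObj.comp_inv]
      exact h'.symm
    · simp

end Groth.Agent.GenTransporter
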